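import Groth.Agent.GLRep.Points

/-!
# Homogeneous representations of `GL_r` have homogeneous polynomial numerators
-/

open TensorProduct LaurentPolynomial
noncomputable section

namespace Groth.Agent.GLRep

open CoordGrp Groth.Agent.Comod

variable {r : ℕ}

/-- Evaluation of Laurent polynomials at a nonzero number. -/
def laurentEval (t : ℂ) (ht : t ≠ 0) : ℂ[T;T⁻¹] →ₐ[ℂ] ℂ where
  toRingHom := LaurentPolynomial.eval₂ (RingHom.id ℂ) (Units.mk0 t ht)
  commutes' := fun x => by simp

lemma laurentEval_T (t : ℂ) (ht : t ≠ 0) (n : ℤ) : laurentEval t ht (T n) = t ^ n := by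
  simp [laurentEval]

lemma det_smul_ne_zero {t : ℂ} (ht : t ≠ 0) {g : Matrix (Fin r) (Fin r) ℂ} (hg : g.det ≠ 0) :
    (t • g).det ≠ 0 := by
  simp [Matrix.det_smul, ht, hg]

lemma ev_scalar (t : ℂ) (ht : t ≠ 0) (x : A r) :
    ev (t • (1 : Matrix (Fin r) (Fin r) ℂ)) (det_smul_ne_zero ht (by simp)) x =
      laurentEval t ht (GLn.diag r ℂ (fun _ => 1) x) := by
  have : ev (t • (1 : Matrix (Fin r) (Fin r) ℂ)) (det_smul_ne_zero ht (by simp)) =
      (laurentEval t ht).comp
        (GLn.diag r ℂ (fun _ => 1) : A r →ₐ[ℂ] ℂ[T;T⁻¹]) := by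
    apply GLn.algHom_ext
    · intro i j
      simp [Matrix.one_apply, apply_ite (laurentEval t ht), laurentEval_T]
    · simp [laurentEval_T, Matrix.det_smul, zpow_natCast]
  exact congr($this x)

lemma eval_smul_of_isHomogeneous {P : MvPolynomial (Fin r × Fin r) ℂ} {d : ℕ}
    (hP : P.IsHomogeneous d) (t : ℂ) (g : Matrix (Fin r) (Fin r) ℂ) :
    MvPolynomial.eval (fun p => (t • g) p.1 p.2) P =
      t ^ d * MvPolynomial.eval (fun p => g p.1 p.2) P := by
  rw [SymTensor.eval_symCoef hP (t • g), SymTensor.eval_symCoef hP g, Finset.mul_sum]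
  refine Finset.sum_congr rfl fun M _ => ?_
  rw [Finset.mul_sum]
  refine Finset.sum_congr rfl fun I _ => ?_
  rw [SymTensor.pw, SymTensor.pw]
  simp only [Matrix.smul_apply, smul_eq_mul, Finset.prod_mul_distrib, Finset.prod_const,
    Finset.card_univ, Fintype.card_fin]
  ring

lemma eval_eq_component {P : MvPolynomial (Fin r × Fin r) ℂ} {a : ℕ} (g : Matrix (Fin r) (Fin r) ℂ)
    (h : ∀ t : ℂ, t ≠ 0 → MvPolynomial.eval (fun p => (t • g) p.1 p.2) P =
      t ^ a * MvPolynomial.eval (fun p => g p.1 p.2) P) :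
    MvPolynomial.eval (fun p => g p.1 p.2) (MvPolynomial.homogeneousComponent a P) =
      MvPolynomial.eval (fun p => g p.1 p.2) P := by
  let N := max (P.totalDegree + 1) (a + 1)
  let F : Polynomial ℂ := ∑ d ∈ Finset.range N,
    Polynomial.monomial d (MvPolynomial.eval (fun p => g p.1 p.2) (MvPolynomial.homogeneousComponent d P))
  have hP : ∑ d ∈ Finset.range N, MvPolynomial.homogeneousComponent d P = P := by
    conv_rhs => rw [← MvPolynomial.sum_homogeneousComponent P]
    refine (Finset.sum_subset (Finset.range_subset_range.mpr (le_max_left _ _)) fun d _ hd => ?_).symm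
    rw [Finset.mem_range] at hd
    exact MvPolynomial.homogeneousComponent_eq_zero _ _ (by omega)
  have hF : F = Polynomial.monomial a (MvPolynomial.eval (fun p => g p.1 p.2) P) := by
    refine Polynomial.eq_of_infinite_eval_eq _ _ ((Set.finite_singleton (0 : ℂ)).infinite_compl.mono
      fun t ht => ?_)
    show F.eval t = _
    simp only [F, Polynomial.eval_finsetSum, Polynomial.eval_monomial]
    rw [mul_comm _ (t ^ a), ← h t ht]
    conv_rhs => rw [← hP]
    rw [map_sum]
    refine Finset.sum_congr rfl fun d _ => ?_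
    rw [eval_smul_of_isHomogeneous (MvPolynomial.homogeneousComponent_isHomogeneous d P), mul_comm]
  have := congrArg (fun q => Polynomial.coeff q a) hF
  simpa [F, Polynomial.finsetSum_coeff, Polynomial.coeff_monomial,
    Finset.mem_range, show a < N from lt_of_lt_of_le a.lt_succ_self (le_max_right _ _)] using this

variable {V : Type} [AddCommGroup V] [Module ℂ V] {n : Type} [Fintype n] [DecidableEq n]

/-- The matrix of a representation in a basis at a point is multiplicative. -/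
lemma ev_coMatrix_mul (ρ : HopfRep.Comod ℂ (A r) V) (b : Module.Basis n ℂ V)
    (g h : Matrix (Fin r) (Fin r) ℂ) (hg : g.det ≠ 0) (hh : h.det ≠ 0) (i j : n) :
    ev (g * h) (by simp [hg, hh]) (letI := ρ; coMatrix (A := A r) b i j) =
      ∑ k, ev g hg (letI := ρ; coMatrix (A := A r) b i k) *
        ev h hh (letI := ρ; coMatrix (A := A r) b k j) := by
  letI := ρ
  have hc := congrFun (congrFun (isCorep_coMatrix (k := ℂ) (A := A r) b).map_comul i) j
  rw [← ev_mul g h hg hh, AlgHom.comp_apply]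
  rw [Matrix.map_apply] at hc
  rw [hc, Matrix.mul_apply, map_sum]
  simp

lemma ev_coMatrix_one (ρ : HopfRep.Comod ℂ (A r) V) (b : Module.Basis n ℂ V) (i j : n) :
    ev (1 : Matrix (Fin r) (Fin r) ℂ) (by simp) (letI := ρ; coMatrix (A := A r) b i j) =
      if i = j then 1 else 0 := by
  letI := ρ
  rw [ev_one]
  have hc := congrFun (congrFun (isCorep_coMatrix (k := ℂ) (A := A r) b).map_counit i) j
  rw [Matrix.map_apply, Matrix.one_apply] at hc
  exact hc

lemma act_basis (ρ : HopfRep.Comod ℂ (A r) V) (b : Module.Basis n ℂ V) (φ : A r →ₐ[ℂ] ℂ) (j : n) :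
    act ρ φ (b j) = ∑ i, φ (letI := ρ; coMatrix (A := A r) b i j) • b i := by
  letI := ρ
  show contr φ (HopfRep.Comod.coact (k := ℂ) (A := A r) (b j)) = _
  rw [coact_basis (A := A r) b]
  simp

/-- Homogeneous numerators. -/
theorem exists_homogeneous_poly (hr : 0 < r) [Module.Finite ℂ V] (ρ : HopfRep.Comod ℂ (A r) V)
    (h : ℤ) (hh : @HopfRep.eigenspace ℂ ℂ[T;T⁻¹] _ _ _ V _ _
      (GLin.comodAlong (GLn.diag r ℂ (fun _ => 1)) ρ) (T h) = ⊤) (b : Module.Basis n ℂ V) :
    ∃ (a c : ℕ), 0 < c ∧ ∃ P : n → n → MvPolynomial (Fin r × Fin r) ℂ,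
      (∀ i j, (P i j).IsHomogeneous a) ∧
      ∀ (g : Matrix (Fin r) (Fin r) ℂ) (hg : g.det ≠ 0) (i j : n),
        ev g hg (letI := ρ; coMatrix (A := A r) b i j) =
          g.det⁻¹ ^ c * MvPolynomial.eval (fun p => g p.1 p.2) (P i j) := by
  let Q : n → n → A r := fun i j => (letI := ρ; coMatrix (A := A r) b i j)
  have hscal : ∀ (t : ℂ) (ht : t ≠ 0) (i j : n),
      ev (t • (1 : Matrix (Fin r) (Fin r) ℂ)) (det_smul_ne_zero ht (by simp)) (Q i j) =
        if i = j then t ^ h else 0 := by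
    intro t ht i j
    have hv : b j ∈ @HopfRep.eigenspace ℂ ℂ[T;T⁻¹] _ _ _ V _ _
        (GLin.comodAlong (GLn.diag r ℂ (fun _ => 1)) ρ) (T h) := by rw [hh]; trivial
    have hv' : (GLin.comodAlong (GLn.diag r ℂ (fun _ => 1)) ρ).coact (b j) = b j ⊗ₜ[ℂ] T h := hv
    rw [GLin.comodAlong_coact] at hv'
    have hq : GLn.diag r ℂ (fun _ => 1) (Q i j) = if i = j then T h else 0 := by
      letI := ρ
      rw [coact_basis (A := A r) b, map_sum] at hv'
      have := congr(TensorProduct.lid ℂ ℂ[T;T⁻¹] ((b.coord i).rTensor ℂ[T;T⁻¹] $hv'))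
      simpa [Finsupp.single_apply, eq_comm (a := i) (b := j), ite_smul, Q] using this
    rw [ev_scalar t ht, hq]
    split_ifs <;> simp [laurentEval_T]
  obtain ⟨c₀, hc₀⟩ := exists_poly_uniform fun p : n × n => Q p.1 p.2
  let c := c₀ + h.natAbs + 1
  choose P₀ hP₀ using fun i j => hc₀ c (by omega) (i, j)
  have hrc : (c : ℤ) ≤ (r : ℤ) * c := by nlinarith [Int.natCast_nonneg c, Int.ofNat_lt.mpr hr]
  let a := (h + (r : ℤ) * c).toNat
  have ha : (a : ℤ) = h + (r : ℤ) * c := Int.toNat_of_nonneg (by omega)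
  have hev : ∀ (g : Matrix (Fin r) (Fin r) ℂ) (hg : g.det ≠ 0) i j,
      ev g hg (Q i j) = g.det⁻¹ ^ c * MvPolynomial.eval (fun p => g p.1 p.2) (P₀ i j) := by
    intro g hg i j
    rw [show Q i j = _ from hP₀ i j, map_mul, map_pow, ev_Dinv, ev_polyMap]
  refine ⟨a, c, by omega, fun i j => MvPolynomial.homogeneousComponent a (P₀ i j),
    fun i j => MvPolynomial.homogeneousComponent_isHomogeneous a _, fun g hg i j => ?_⟩
  rw [eval_eq_component g fun t ht => ?_]
  · exact hev g hg i j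
  have h1 := ev_coMatrix_mul ρ b g (t • 1) hg (det_smul_ne_zero ht (by simp)) i j
  have hmul : g * (t • (1 : Matrix (Fin r) (Fin r) ℂ)) = t • g := by simp
  simp only [hmul] at h1
  rw [show ev (t • g) _ _ = _ from hev (t • g) (det_smul_ne_zero ht hg) i j,
    Finset.sum_congr rfl (g := fun k => ev g hg (Q i k) * if k = j then t ^ h else 0)
      (fun k _ => by rw [← hscal t ht k j])] at h1
  simp only [mul_ite, mul_zero, Finset.sum_ite_eq', Finset.mem_univ, if_true, hev g hg i j,
    Matrix.det_smul, Fintype.card_fin, mul_inv, mul_pow] at h1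
  have hpow : t ^ a = t ^ h * (t ^ r) ^ c := by
    rw [← zpow_natCast, ha, zpow_add₀ ht, ← pow_mul, ← zpow_natCast t (r * c)]
    push_cast
    rfl
  have htr : ((t ^ r)⁻¹) ^ c ≠ 0 := pow_ne_zero _ (inv_ne_zero (pow_ne_zero _ ht))
  have hdg : (g.det⁻¹) ^ c ≠ 0 := pow_ne_zero _ (inv_ne_zero hg)
  refine mul_left_cancel₀ (mul_ne_zero htr hdg) (h1.trans ?_)
  rw [hpow]
  have : ((t ^ r)⁻¹) ^ c * (t ^ r) ^ c = 1 := by
    rw [← mul_pow, inv_mul_cancel₀ (pow_ne_zero _ ht), one_pow]
  linear_combination (-(g.det⁻¹) ^ c * t ^ h * MvPolynomial.eval (fun p => g p.1 p.2) (P₀ i j)) * this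

end Groth.Agent.GLRep
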