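import Groth.Agent.GLRep.SymTensor
import Groth.Agent.Comod.Corep
import Groth.Prelude.Def_GLin5
import Groth.Prelude.Def_ComodTens
import Groth.Prelude.Def_Hoch
import Mathlib.LinearAlgebra.PiTensorProduct.Basis

/-!
# Polynomial form, points and tensor powers for `GL_r`
-/

open TensorProduct LaurentPolynomial
noncomputable section

namespace Groth.Agent.GLRep

open CoordGrp

variable {r : ℕ}

/-- The coordinate ring of `GL_r` over the complex numbers. -/
abbrev A (r : ℕ) : Type := GLn r ℂ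

/-- A polynomial in the entries as a function on the group. -/
def polyMap (r : ℕ) : MvPolynomial (Fin r × Fin r) ℂ →ₐ[ℂ] A r :=
  MvPolynomial.aeval fun p => GLn.X p.1 p.2

@[simp] lemma polyMap_X (p : Fin r × Fin r) : polyMap r (MvPolynomial.X p) = GLn.X p.1 p.2 :=
  MvPolynomial.aeval_X _ _

lemma polyMap_det : polyMap r (Matrix.mvPolynomialX (Fin r) (Fin r) ℂ).det = GLn.det := by
  rw [AlgHom.map_det, GLn.det_eq]
  congr 1
  ext i j
  simp [GLn.genMat]

lemma Dinv_pow_mul_det_pow (c : ℕ) : (GLn.Dinv : A r) ^ c * GLn.det ^ c = 1 := by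
  rw [← mul_pow, GLn.Dinv_mul_det, one_pow]

lemma exists_poly_shift {q : A r} {c : ℕ} {P : MvPolynomial (Fin r × Fin r) ℂ}
    (h : q = GLn.Dinv ^ c * polyMap r P) (e : ℕ) :
    q = GLn.Dinv ^ (c + e) * polyMap r ((Matrix.mvPolynomialX (Fin r) (Fin r) ℂ).det ^ e * P) := by
  rw [map_mul, map_pow, polyMap_det, h, pow_add]
  calc _ = (GLn.Dinv ^ e * GLn.det ^ e) * (GLn.Dinv ^ c * polyMap r P) := by
        rw [Dinv_pow_mul_det_pow, one_mul]
    _ = _ := by ring

lemma exists_poly (q : A r) : ∃ (c : ℕ) (P : MvPolynomial (Fin r × Fin r) ℂ),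
    q = GLn.Dinv ^ c * polyMap r P := by
  obtain ⟨g, rfl⟩ := Ideal.Quotient.mk_surjective q
  let ψ : MvPolynomial (GLPoly.Idx r) ℂ →ₐ[ℂ] A r := GLn.mk r ℂ
  suffices h : ∀ g, ∃ c P, ψ g = GLn.Dinv ^ c * polyMap r P from h g
  intro g
  induction g using MvPolynomial.induction_on with
  | C t =>
    refine ⟨0, MvPolynomial.C t, ?_⟩
    rw [← MvPolynomial.algebraMap_eq, ← MvPolynomial.algebraMap_eq, AlgHom.commutes, pow_zero,
      one_mul, AlgHom.commutes]
  | add p q hp hq =>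
    obtain ⟨c, P, hP⟩ := hp
    obtain ⟨c', Q, hQ⟩ := hq
    refine ⟨c + c', (Matrix.mvPolynomialX (Fin r) (Fin r) ℂ).det ^ c' * P +
      (Matrix.mvPolynomialX (Fin r) (Fin r) ℂ).det ^ c * Q, ?_⟩
    rw [map_add, map_add, mul_add]
    congr 1
    · exact exists_poly_shift hP c'
    · rw [add_comm c]; exact exists_poly_shift hQ c
  | mul_X p s hp =>
    obtain ⟨c, P, hP⟩ := hp
    rcases s with ⟨i, j⟩ | u
    · refine ⟨c, P * MvPolynomial.X (i, j), ?_⟩
      rw [map_mul, map_mul, hP, polyMap_X, mul_assoc]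
      rfl
    · refine ⟨c + 1, P, ?_⟩
      rw [map_mul, hP, pow_succ, show ψ (MvPolynomial.X (Sum.inr u)) = GLn.Dinv from rfl]
      ring

/-- Finitely many functions with a common denominator exponent. -/
lemma exists_poly_uniform {ι : Type*} [Finite ι] (q : ι → A r) :
    ∃ c₀ : ℕ, ∀ c, c₀ ≤ c → ∀ i, ∃ P, q i = GLn.Dinv ^ c * polyMap r P := by
  cases nonempty_fintype ι
  choose c P hP using fun i => exists_poly (q i)
  refine ⟨Finset.univ.sup c, fun n hn i => ?_⟩
  obtain ⟨e, rfl⟩ := Nat.exists_eq_add_of_le ((Finset.le_sup (Finset.mem_univ i)).trans hn)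
  exact ⟨_, exists_poly_shift (hP i) e⟩

/-- The point given by an invertible matrix. -/
def ev (g : Matrix (Fin r) (Fin r) ℂ) (hg : g.det ≠ 0) : A r →ₐ[ℂ] ℂ :=
  GLn.pt r ℂ g g.det⁻¹ (mul_inv_cancel₀ hg)

@[simp] lemma ev_X (g : Matrix (Fin r) (Fin r) ℂ) (hg : g.det ≠ 0) (i j : Fin r) :
    ev g hg (GLn.X i j) = g i j := GLn.pt_X _ _ _ i j

@[simp] lemma ev_Dinv (g : Matrix (Fin r) (Fin r) ℂ) (hg : g.det ≠ 0) :
    ev g hg GLn.Dinv = g.det⁻¹ := GLn.pt_Dinv _ _ _

lemma ev_polyMap (g : Matrix (Fin r) (Fin r) ℂ) (hg : g.det ≠ 0) (P) :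
    ev g hg (polyMap r P) = MvPolynomial.eval (fun p => g p.1 p.2) P := by
  have : (ev g hg).comp (polyMap r) = MvPolynomial.aeval (fun p => g p.1 p.2) :=
    MvPolynomial.algHom_ext fun p => by simp
  exact congr($this P)

lemma eq_of_ev {x y : A r} (h : ∀ g hg, ev g hg x = ev g hg y) : x = y := by
  rw [← sub_eq_zero]
  obtain ⟨c, P, hP⟩ := exists_poly (x - y)
  suffices P = 0 by rw [hP, this, map_zero, mul_zero]
  refine SymTensor.eq_zero_of_eval_det_ne_zero fun g hg => ?_
  have h0 : ev g hg (x - y) = 0 := by rw [map_sub, h, sub_self]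
  rw [hP, map_mul, map_pow, ev_Dinv, ev_polyMap, mul_eq_zero] at h0
  exact h0.resolve_left (pow_ne_zero _ (inv_ne_zero hg))

lemma ev_one : ev (1 : Matrix (Fin r) (Fin r) ℂ) (by simp) = Bialgebra.counitAlgHom ℂ (A r) := by
  apply GLn.algHom_ext
  · intro i j
    rw [ev_X, Bialgebra.counitAlgHom_apply, GLn.counit_X, Matrix.one_apply]
  · rw [ev_Dinv, Bialgebra.counitAlgHom_apply, GLn.counit_Dinv, Matrix.det_one, inv_one]

lemma ev_mul (g h : Matrix (Fin r) (Fin r) ℂ) (hg : g.det ≠ 0) (hh : h.det ≠ 0) :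
    (Algebra.TensorProduct.lift (ev g hg) (ev h hh) fun _ _ => Commute.all _ _).comp
      (Bialgebra.comulAlgHom ℂ (A r)) = ev (g * h) (by simp [hg, hh]) := by
  apply GLn.algHom_ext
  · intro i j
    simp [GLn.comul_X, Matrix.mul_apply]
  · simp [GLn.comul_Dinv, Matrix.det_mul, mul_inv_rev, mul_comm]

section Act

variable {V : Type} [AddCommGroup V] [Module ℂ V]

/-- Contraction by a point. -/
def contr (φ : A r →ₐ[ℂ] ℂ) : V ⊗[ℂ] A r →ₗ[ℂ] V :=
  (TensorProduct.rid ℂ V).toLinearMap ∘ₗ φ.toLinearMap.lTensor V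

@[simp] lemma contr_tmul (φ : A r →ₐ[ℂ] ℂ) (v : V) (x : A r) :
    contr φ (v ⊗ₜ[ℂ] x) = φ x • v := by simp [contr]

/-- The operator of a point. -/
def act (c : HopfRep.Comod ℂ (A r) V) (φ : A r →ₐ[ℂ] ℂ) : V →ₗ[ℂ] V := contr φ ∘ₗ c.coact

lemma contr_rTensor {W : Type} [AddCommGroup W] [Module ℂ W] (f : V →ₗ[ℂ] W) (φ : A r →ₐ[ℂ] ℂ)
    (t : V ⊗[ℂ] A r) : contr φ (f.rTensor (A r) t) = f (contr φ t) := by
  induction t using TensorProduct.induction_on with
  | zero => simp
  | tmul v x => simp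
  | add s t hs ht => simp only [map_add, hs, ht]

lemma eq_of_contr [Module.Finite ℂ V] {s t : V ⊗[ℂ] A r}
    (h : ∀ g hg, contr (ev g hg) s = contr (ev g hg) t) : s = t := by
  classical
  let b := Module.finBasis ℂ V
  refine Groth.Agent.Comod.coordLeft_ext b fun i => eq_of_ev fun g hg => ?_
  have key : ∀ t : V ⊗[ℂ] A r,
      ev g hg (Groth.Agent.Comod.coordLeft b i t) = b.coord i (contr (ev g hg) t) := by
    intro t
    induction t using TensorProduct.induction_on with
    | zero => simp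
    | tmul v x => simp [Groth.Agent.Comod.coordLeft, mul_comm]
    | add s t hs ht => simp only [map_add, hs, ht]
  rw [key, key, h]

/-- A linear map commuting with all points is a morphism of comodules. -/
lemma isComodHom_of_act {W : Type} [AddCommGroup W] [Module ℂ W] [Module.Finite ℂ W]
    (c : HopfRep.Comod ℂ (A r) V) (d : HopfRep.Comod ℂ (A r) W) (f : V →ₗ[ℂ] W)
    (h : ∀ g hg v, act d (ev g hg) (f v) = f (act c (ev g hg) v)) :
    @Hoch.IsComodHom ℂ _ (A r) _ _ _ V _ _ c W _ _ d f := by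
  refine LinearMap.ext fun v => eq_of_contr fun g hg => ?_
  simp only [LinearMap.comp_apply]
  rw [contr_rTensor]
  exact h g hg v

end Act

section Tpow

/-- The standard basis tensors. -/
def tb {a : ℕ} (I : Fin a → Fin r) : TensorPower ℂ a (Fin r → ℂ) :=
  PiTensorProduct.tprod ℂ fun s => Pi.single (I s) 1

/-- The basis of the tensor power. -/
def tbasis (a r : ℕ) : Module.Basis (Fin a → Fin r) ℂ (TensorPower ℂ a (Fin r → ℂ)) :=
  Basis.piTensorProduct fun _ : Fin a => Pi.basisFun ℂ (Fin r)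

lemma tbasis_apply {a : ℕ} (I : Fin a → Fin r) : tbasis a r I = tb I := by
  simp [tbasis, tb]

/-- The standard representation. -/
abbrev std (r : ℕ) : HopfRep.Comod ℂ (A r) (Fin r → ℂ) :=
  GLin.comodAlong (Mat.toGLn r ℂ) (ComodTens.stdVec r ℂ)

lemma std_coact (i : Fin r) :
    (std r).coact (Pi.single i 1) = ∑ j, Pi.single j (1 : ℂ) ⊗ₜ[ℂ] (GLn.X j i : A r) := by
  rw [GLin.comodAlong_coact, ComodTens.stdVec_coact_single, map_sum]
  simp

lemma tpow_coact_tb : ∀ (a : ℕ) (I : Fin a → Fin r),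
    (ComodTens.Comod.tpow (std r) a).coact (tb I) =
      ∑ K : Fin a → Fin r, tb K ⊗ₜ[ℂ] ∏ s, (GLn.X (K s) (I s) : A r) := by
  intro a
  induction a with
  | zero =>
    intro I
    have he : tb I = (PiTensorProduct.isEmptyEquiv (Fin 0) (R := ℂ)
        (s := fun _ : Fin 0 => Fin r → ℂ)).symm 1 := by
      rw [LinearEquiv.eq_symm_apply, tb, PiTensorProduct.isEmptyEquiv_apply_tprod]
    rw [Fintype.sum_unique, Finset.univ_eq_empty, Finset.prod_empty,
      show (default : Fin 0 → Fin r) = I from Subsingleton.elim _ _, he, ComodTens.tpow_zero,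
      ComodTens.ofEquiv_coact_apply]
    show (LinearEquiv.toLinearMap _).rTensor (A r) ((1 : ℂ) ⊗ₜ[ℂ] (1 : A r)) = _
    rw [LinearMap.rTensor_tmul]
    rfl
  | succ a ih =>
    intro I
    let e := TensorPower.mulEquiv (R := ℂ) (M := Fin r → ℂ) (n := a) (m := 1)
    let e1 := (PiTensorProduct.subsingletonEquiv (R := ℂ)
      (s := fun _ : Fin 1 => Fin r → ℂ) (0 : Fin 1))
    have hsplit : ∀ (J : Fin a → Fin r) (j : Fin r),
        e (tb J ⊗ₜ[ℂ] e1.symm (Pi.single j 1)) = tb (Fin.snoc J j) := by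
      intro J j
      rw [← TensorPower.gMul_def, tb, PiTensorProduct.subsingletonEquiv_symm_apply,
        TensorPower.tprod_mul_tprod, tb]
      congr 1
      funext s
      refine Fin.lastCases ?_ (fun t => ?_) s
      · rw [Fin.snoc_last, show Fin.last a = Fin.natAdd a (0 : Fin 1) from Fin.ext (by simp),
          Fin.append_right]
        simp
      · rw [Fin.snoc_castSucc, show Fin.castSucc t = Fin.castAdd 1 t from rfl, Fin.append_left]
    conv_lhs => rw [← Fin.snoc_init_self I, ← hsplit]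
    rw [ComodTens.tpow_succ, ComodTens.ofEquiv_coact_apply, ComodTens.tensor_coact_tmul, ih,
      ComodTens.ofEquiv_coact_apply, std_coact]
    simp only [map_sum, TensorProduct.sum_tmul, TensorProduct.tmul_sum, LinearMap.rTensor_tmul,
      AlgebraTensorModule.tensorTensorTensorComm_tmul, TensorProduct.map_tmul,
      LinearMap.id_apply, LinearMap.mul'_apply, LinearEquiv.coe_coe]
    rw [← (Fin.snocEquiv fun _ : Fin (a + 1) => Fin r).sum_comp, Fintype.sum_prod_type]
    refine Finset.sum_congr rfl fun j _ => Finset.sum_congr rfl fun K _ => ?_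
    rw [show e _ = _ from hsplit K j]
    congr 1
    · simp [Fin.prod_univ_castSucc, Fin.snocEquiv, Fin.init]

end Tpow

end Groth.Agent.GLRep
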