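import Mathlib.RingTheory.MvPolynomial.Homogeneous
import Mathlib.Algebra.MvPolynomial.Funext
import Mathlib.LinearAlgebra.Matrix.Determinant.Basic
import Mathlib.LinearAlgebra.Matrix.MvPolynomial
import Mathlib.Analysis.Complex.Basic

/-!
# Symmetric coefficient tensors of homogeneous polynomials
-/

open MvPolynomial
noncomputable section

namespace Groth.Agent.GLRep.SymTensor

variable {σ : Type} {a : ℕ}

/-- The exponent of the word `w`. -/
def mdeg (w : Fin a → σ) : σ →₀ ℕ := ∑ s, Finsupp.single (w s) 1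

lemma prod_X (w : Fin a → σ) :
    (∏ s, X (w s) : MvPolynomial σ ℂ) = monomial (mdeg w) 1 := by
  rw [mdeg, monomial_sum_one]; rfl

lemma mdeg_perm (w : Fin a → σ) (e : Equiv.Perm (Fin a)) : mdeg (w ∘ e) = mdeg w :=
  Equiv.sum_comp e fun s => Finsupp.single (w s) 1

lemma mdeg_apply [DecidableEq σ] (w : Fin a → σ) (p : σ) :
    mdeg w p = Fintype.card {s // w s = p} := by
  simp [mdeg, Finsupp.finsetSum_apply, Finsupp.single_apply, Fintype.card_subtype,
    Finset.sum_boole]

lemma exists_perm_of_mdeg_eq {w w' : Fin a → σ} (h : mdeg w = mdeg w') :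
    ∃ e : Equiv.Perm (Fin a), w' ∘ e = w := by
  classical
  have hc : ∀ p, Fintype.card {s // w s = p} = Fintype.card {s // w' s = p} := fun p => by
    have := DFunLike.congr_fun h p
    rw [mdeg_apply, mdeg_apply] at this
    convert this
  exact ⟨Equiv.ofFiberEquiv fun p => Fintype.equivOfCardEq (hc p),
    funext fun s => Equiv.ofFiberEquiv_map _ s⟩

lemma exists_mdeg : ∀ (a : ℕ) (d : σ →₀ ℕ), d.degree = a → ∃ w : Fin a → σ, mdeg w = d := by
  classical
  intro a
  induction a with
  | zero =>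
    intro d hd
    refine ⟨Fin.elim0, ?_⟩
    rw [mdeg, Fin.sum_univ_zero, ((Finsupp.degree_eq_zero_iff d).mp hd)]
  | succ a ih =>
    intro d hd
    have hne : d ≠ 0 := fun h => by simp [h] at hd
    obtain ⟨p, hp⟩ := Finsupp.support_nonempty_iff.mpr hne
    rw [Finsupp.mem_support_iff] at hp
    have hle : Finsupp.single p 1 ≤ d := Finsupp.single_le_iff.mpr (Nat.one_le_iff_ne_zero.mpr hp)
    have hd' : d = Finsupp.single p 1 + (d - Finsupp.single p 1) :=
      (add_tsub_cancel_of_le hle).symm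
    have hdeg : (d - Finsupp.single p 1).degree = a := by
      have := congrArg Finsupp.degree hd'
      rw [hd, map_add, Finsupp.degree_single] at this
      omega
    obtain ⟨w, hw⟩ := ih _ hdeg
    refine ⟨Fin.cons p w, ?_⟩
    rw [mdeg, Fin.sum_univ_succ, hd']
    simp only [Fin.cons_zero, Fin.cons_succ]
    rw [← hw]; rfl

variable [Fintype σ] [DecidableEq σ]

/-- The symmetric coefficient tensor of a polynomial in degree `a`. -/
def symCoef (P : MvPolynomial σ ℂ) (w : Fin a → σ) : ℂ :=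
  coeff (mdeg w) P / ((Finset.univ.filter fun w' : Fin a → σ => mdeg w' = mdeg w).card : ℂ)

lemma symCoef_perm (P : MvPolynomial σ ℂ) (w : Fin a → σ) (e : Equiv.Perm (Fin a)) :
    symCoef P (w ∘ e) = symCoef P w := by
  simp only [symCoef, mdeg_perm]

lemma coeff_sum_words (f : (Fin a → σ) → ℂ) (d : σ →₀ ℕ) :
    coeff d (∑ w, C (f w) * ∏ s, X (w s)) =
      ∑ w ∈ Finset.univ.filter (fun w : Fin a → σ => mdeg w = d), f w := by
  simp only [prod_X, C_mul_monomial, mul_one, coeff_sum, coeff_monomial, Finset.sum_filter]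

lemma sum_symCoef {P : MvPolynomial σ ℂ} (hP : P.IsHomogeneous a) :
    ∑ w : Fin a → σ, C (symCoef P w) * ∏ s, X (w s) = P := by
  ext d
  rw [coeff_sum_words]
  by_cases hd : (Finset.univ.filter fun w : Fin a → σ => mdeg w = d).Nonempty
  · rw [Finset.sum_congr rfl (g := fun _ => coeff d P /
      ((Finset.univ.filter fun w : Fin a → σ => mdeg w = d).card : ℂ))]
    · rw [Finset.sum_const, nsmul_eq_mul, mul_div_cancel₀]
      exact_mod_cast hd.card_pos.ne'
    · intro w hw
      rw [Finset.mem_filter] at hw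
      simp only [symCoef, hw.2]
  · rw [Finset.not_nonempty_iff_eq_empty.mp hd, Finset.sum_empty]
    symm
    by_contra hc
    refine hd ?_
    obtain ⟨w, hw⟩ := exists_mdeg a d (by
      rw [Finsupp.degree_eq_weight_one]; exact hP hc)
    exact ⟨w, by simpa using hw⟩

lemma eq_zero_of_sum_eq_zero {f : (Fin a → σ) → ℂ}
    (hf : ∀ (w : Fin a → σ) (e : Equiv.Perm (Fin a)), f (w ∘ e) = f w)
    (h : ∑ w, C (f w) * ∏ s, X (w s) = (0 : MvPolynomial σ ℂ)) : f = 0 := by
  funext w
  have hc := congrArg (coeff (mdeg w)) h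
  rw [coeff_sum_words, coeff_zero, Finset.sum_congr rfl (g := fun _ => f w)] at hc
  · rw [Finset.sum_const, nsmul_eq_mul, mul_eq_zero] at hc
    refine hc.resolve_left ?_
    have : (Finset.univ.filter fun w' : Fin a → σ => mdeg w' = mdeg w).Nonempty := ⟨w, by simp⟩
    exact_mod_cast this.card_pos.ne'
  · intro w' hw'
    obtain ⟨e, he⟩ := exists_perm_of_mdeg_eq (Finset.mem_filter.mp hw').2
    rw [← he, hf]

section Matrix

variable {r : ℕ}

lemma eq_zero_of_eval_det_ne_zero {P : MvPolynomial (Fin r × Fin r) ℂ}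
    (h : ∀ g : Matrix (Fin r) (Fin r) ℂ, g.det ≠ 0 → eval (fun p => g p.1 p.2) P = 0) : P = 0 := by
  have hmul : (Matrix.mvPolynomialX (Fin r) (Fin r) ℂ).det * P = 0 := by
    refine MvPolynomial.funext fun x => ?_
    rw [map_mul, map_zero]
    let g : Matrix (Fin r) (Fin r) ℂ := Matrix.of fun i j => x (i, j)
    by_cases hg : g.det = 0
    · have : eval x (Matrix.mvPolynomialX (Fin r) (Fin r) ℂ).det = g.det := by
        rw [RingHom.map_det]
        congr 1
        ext i j
        simp [g]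
      rw [this, hg, zero_mul]
    · have hx : eval x P = eval (fun p => g p.1 p.2) P := rfl
      rw [hx, h g hg, mul_zero]
  exact (mul_eq_zero.mp hmul).resolve_left (Matrix.det_mvPolynomialX_ne_zero _ _)

/-- The entry of a tensor power of a matrix. -/
def pw (g : Matrix (Fin r) (Fin r) ℂ) (M I : Fin a → Fin r) : ℂ := ∏ s, g (M s) (I s)

/-- A pair of words as a word of pairs. -/
def zp (M I : Fin a → Fin r) : Fin a → Fin r × Fin r := fun s => (M s, I s)

lemma pw_mul (h g : Matrix (Fin r) (Fin r) ℂ) (M I : Fin a → Fin r) :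
    pw (h * g) M I = ∑ K, pw h M K * pw g K I := by
  simp only [pw, Matrix.mul_apply, Fintype.prod_sum, ← Finset.prod_mul_distrib]

lemma pw_one [DecidableEq (Fin a → Fin r)] (M I : Fin a → Fin r) :
    pw (1 : Matrix (Fin r) (Fin r) ℂ) M I = if M = I then 1 else 0 := by
  simp only [pw, Matrix.one_apply, Fintype.prod_ite_zero, Finset.prod_const_one, funext_iff]

lemma pw_conjTranspose (g : Matrix (Fin r) (Fin r) ℂ) (M I : Fin a → Fin r) :
    pw g.conjTranspose M I = star (pw g I M) := by
  simp [pw, Matrix.conjTranspose_apply, ← starRingEnd_apply, map_prod]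

lemma eval_sum_words (g : Matrix (Fin r) (Fin r) ℂ) (f : (Fin a → Fin r × Fin r) → ℂ) :
    eval (fun p => g p.1 p.2) (∑ w, C (f w) * ∏ s, X (w s)) =
      ∑ M, ∑ I, f (zp M I) * pw g M I := by
  simp only [map_sum, map_mul, eval_C, map_prod, eval_X]
  rw [← Fintype.sum_prod_type']
  exact Fintype.sum_equiv (Equiv.arrowProdEquivProdArrow _ _ _) _ _ fun w => rfl

lemma eval_symCoef {P : MvPolynomial (Fin r × Fin r) ℂ} (hP : P.IsHomogeneous a)
    (g : Matrix (Fin r) (Fin r) ℂ) :
    eval (fun p => g p.1 p.2) P = ∑ M : Fin a → Fin r, ∑ I, symCoef P (zp M I) * pw g M I := by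
  conv_lhs => rw [← sum_symCoef hP]
  exact eval_sum_words g _

/-- Symmetric tensors are determined by their values on invertible matrices. -/
lemma eq_zero_of_pw {f : (Fin a → Fin r) → (Fin a → Fin r) → ℂ}
    (hf : ∀ M I (e : Equiv.Perm (Fin a)), f (M ∘ e) (I ∘ e) = f M I)
    (h : ∀ g : Matrix (Fin r) (Fin r) ℂ, g.det ≠ 0 → ∑ M, ∑ I, f M I * pw g M I = 0) (M I) :
    f M I = 0 := by
  let F : (Fin a → Fin r × Fin r) → ℂ := fun w => f (fun s => (w s).1) (fun s => (w s).2)
  have h0 : F = 0 := eq_zero_of_sum_eq_zero (fun w e => hf (fun s => (w s).1) (fun s => (w s).2) e) <|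
    eq_zero_of_eval_det_ne_zero fun g hg => (eval_sum_words g F).trans (h g hg)
  exact congrFun h0 (zp M I)

lemma pw_perm (g : Matrix (Fin r) (Fin r) ℂ) (M I : Fin a → Fin r) (e : Equiv.Perm (Fin a)) :
    pw g (M ∘ e) (I ∘ e) = pw g M I :=
  Equiv.prod_comp e fun s => g (M s) (I s)

end Matrix

end Groth.Agent.GLRep.SymTensor
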