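import Groth.Agent.GLRep.Homog
import Mathlib.Analysis.InnerProductSpace.Adjoint
import Mathlib.Analysis.InnerProductSpace.PiL2

/-!
# A homogeneous representation of `GL_r` is a summand of tensor powers twisted by the determinant
-/

open TensorProduct LaurentPolynomial
noncomputable section

namespace Groth.Agent.GLRep

open CoordGrp Groth.Agent.Comod SymTensor

variable {r : ℕ}

/-- Copies of the twisted tensor power. -/
abbrev copies (r a b c : ℕ) : HopfRep.Comod ℂ (A r) (Fin b → TensorPower ℂ a (Fin r → ℂ)) :=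
  ComodTens.Comod.twist (ComodTens.Comod.pi fun _ : Fin b => ComodTens.Comod.tpow (std r) a)
    (GLn.Dinv ^ c) (IsGroupLikeElem.pow ⟨GLn.counit_Dinv, GLn.comul_Dinv⟩)

lemma act_copies {a b c : ℕ} (g : Matrix (Fin r) (Fin r) ℂ) (hg : g.det ≠ 0) (β : Fin b)
    (I : Fin a → Fin r) :
    act (copies r a b c) (ev g hg) (Pi.single β (tb I)) =
      ∑ K, (g.det⁻¹ ^ c * pw g K I) • (Pi.single β (tb K) : Fin b → TensorPower ℂ a (Fin r → ℂ)) := by
  show contr (ev g hg) ((copies r a b c).coact (Pi.single β (tb I))) = _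
  rw [ComodTens.twist_coact, ComodTens.pi_coact_single, tpow_coact_tb]
  simp [pw, mul_comm]

/-- The coordinates on copies of the tensor power. -/
def cbasis (a b r : ℕ) :
    Module.Basis (Σ _ : Fin b, Fin a → Fin r) ℂ (Fin b → TensorPower ℂ a (Fin r → ℂ)) :=
  Pi.basis fun _ => tbasis a r

lemma cbasis_apply (a b : ℕ) (β : Fin b) (I : Fin a → Fin r) :
    cbasis a b r ⟨β, I⟩ = Pi.single β (tb I) := by
  simp [cbasis, tbasis_apply]

/-- The matrix of a point. -/
def cmat (a b c : ℕ) (g : Matrix (Fin r) (Fin r) ℂ) :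
    Matrix (Σ _ : Fin b, Fin a → Fin r) (Σ _ : Fin b, Fin a → Fin r) ℂ :=
  fun x y => if x.1 = y.1 then g.det⁻¹ ^ c * pw g x.2 y.2 else 0

lemma act_cbasis {a b c : ℕ} (g : Matrix (Fin r) (Fin r) ℂ) (hg : g.det ≠ 0)
    (y : Σ _ : Fin b, Fin a → Fin r) :
    act (copies r a b c) (ev g hg) (cbasis a b r y) = ∑ x, cmat a b c g x y • cbasis a b r x := by
  obtain ⟨β, I⟩ := y
  rw [cbasis_apply, act_copies, Fintype.sum_sigma, Finset.sum_eq_single β _ (by simp)]
  · simp [cmat, cbasis_apply]
  · intro γ _ hγ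
    exact Finset.sum_eq_zero fun K _ => by simp [cmat, hγ]

lemma cmat_conjTranspose (a b c : ℕ) (g : Matrix (Fin r) (Fin r) ℂ) :
    (cmat a b c g).conjTranspose = cmat a b c g.conjTranspose := by
  ext x y
  simp only [Matrix.conjTranspose_apply, cmat, Matrix.det_conjTranspose, pw_conjTranspose]
  by_cases h : x.1 = y.1
  · rw [if_pos h, if_pos h.symm, star_mul', star_pow, star_inv₀]
  · rw [if_neg h, if_neg (Ne.symm h), star_zero]

theorem exists_summand (hr : 0 < r) (V : Type) [AddCommGroup V] [Module ℂ V] [Module.Finite ℂ V]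
    (ρ : HopfRep.Comod ℂ (A r) V) (h : ℤ)
    (hh : @HopfRep.eigenspace ℂ ℂ[T;T⁻¹] _ _ _ V _ _
      (GLin.comodAlong (GLn.diag r ℂ (fun _ => 1)) ρ) (T h) = ⊤) :
    ∃ (a b c : ℕ), 0 < c ∧
      ∃ (i : V →ₗ[ℂ] (Fin b → TensorPower ℂ a (Fin r → ℂ)))
        (p : (Fin b → TensorPower ℂ a (Fin r → ℂ)) →ₗ[ℂ] V),
        p ∘ₗ i = LinearMap.id ∧
        @Hoch.IsComodHom ℂ _ (A r) _ _ _ V _ _ ρ (Fin b → TensorPower ℂ a (Fin r → ℂ)) _ _
          (copies r a b c) i ∧
        @Hoch.IsComodHom ℂ _ (A r) _ _ _ (Fin b → TensorPower ℂ a (Fin r → ℂ)) _ _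
          (copies r a b c) V _ _ ρ p := by
  classical
  let N := Fin (Module.finrank ℂ V)
  let bV : Module.Basis N ℂ V := Module.finBasis ℂ V
  obtain ⟨a, c, hc, P, hP, hQ⟩ := exists_homogeneous_poly hr ρ h hh bV
  let C : N → N → (Fin a → Fin r) → (Fin a → Fin r) → ℂ := fun j l M I => symCoef (P j l) (zp M I)
  -- the matrix coefficient identity
  have key : ∀ (g : Matrix (Fin r) (Fin r) ℂ), g.det ≠ 0 → ∀ j l M K,
      ∑ I, C j l M I * pw g K I = ∑ k, C j k M K * MvPolynomial.eval (fun p => g p.1 p.2) (P k l) := by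
    intro g hg j l M K
    rw [← sub_eq_zero]
    refine eq_zero_of_pw (f := fun M K => (∑ I, C j l M I * pw g K I) -
      ∑ k, C j k M K * MvPolynomial.eval (fun p => g p.1 p.2) (P k l)) (fun M K e => ?_)
      (fun u hu => ?_) M K
    · congr 1
      · refine (Fintype.sum_equiv (Equiv.arrowCongr e.symm (Equiv.refl _)) _ _ fun I => ?_).symm
        show C j l M I * pw g K I = C j l (M ∘ e) (I ∘ e) * pw g (K ∘ e) (I ∘ e)
        rw [pw_perm]
        congr 1
        exact (symCoef_perm (P j l) (zp M I) e).symm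
      · refine Finset.sum_congr rfl fun k _ => ?_
        congr 1
        exact symCoef_perm (P j k) (zp M K) e
    · simp only [sub_mul, Finset.sum_sub_distrib, sub_eq_zero]
      have hl : ∑ M, ∑ K, (∑ I, C j l M I * pw g K I) * pw u M K =
          MvPolynomial.eval (fun p => (u * g) p.1 p.2) (P j l) := by
        rw [eval_symCoef (hP j l)]
        refine Finset.sum_congr rfl fun M _ => ?_
        simp only [Finset.sum_mul]
        rw [Finset.sum_comm]
        refine Finset.sum_congr rfl fun I _ => ?_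
        rw [pw_mul, Finset.mul_sum]
        refine Finset.sum_congr rfl fun K _ => ?_
        show C j l M I * _ * _ = C j l M I * _
        ring
      have hr' : ∑ M, ∑ K, (∑ k, C j k M K * MvPolynomial.eval (fun p => g p.1 p.2) (P k l)) * pw u M K =
          ∑ k, MvPolynomial.eval (fun p => u p.1 p.2) (P j k) *
            MvPolynomial.eval (fun p => g p.1 p.2) (P k l) := by
        simp only [eval_symCoef (hP j _) u, Finset.sum_mul]
        rw [Finset.sum_comm (γ := N)]
        refine Finset.sum_congr rfl fun M _ => ?_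
        rw [Finset.sum_comm (γ := N)]
        refine Finset.sum_congr rfl fun K _ => Finset.sum_congr rfl fun k _ => ?_
        show C j k M K * _ * _ = C j k M K * _ * _
        ring
      rw [hl, hr']
      have hmul := ev_coMatrix_mul ρ bV u g hu hg j l
      simp only [hQ] at hmul
      rw [Matrix.det_mul, mul_inv, mul_pow] at hmul
      refine mul_left_cancel₀ (mul_ne_zero (pow_ne_zero c (inv_ne_zero hu))
        (pow_ne_zero c (inv_ne_zero hg))) (hmul.trans ?_)
      rw [Finset.mul_sum]
      refine Finset.sum_congr rfl fun k _ => ?_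
      ring
  let eb := (Fintype.equivFin (N × (Fin a → Fin r))).symm
  let b := Fintype.card (N × (Fin a → Fin r))
  let i : V →ₗ[ℂ] (Fin b → TensorPower ℂ a (Fin r → ℂ)) :=
    bV.constr ℂ fun l β => ∑ I, C (eb β).1 l (eb β).2 I • tb I
  have hi : ∀ l, i (bV l) = ∑ β, ∑ I, C (eb β).1 l (eb β).2 I • (Pi.single β (tb I) :
      Fin b → TensorPower ℂ a (Fin r → ℂ)) := by
    intro l
    funext γ
    rw [show i (bV l) = _ from bV.constr_basis ℂ _ l]
    simp [Pi.single_apply, Finset.sum_apply]
  have hcomm : ∀ g hg v, act (copies r a b c) (ev g hg) (i v) = i (act ρ (ev g hg) v) := by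
    intro g hg v
    refine LinearMap.congr_fun (f := act (copies r a b c) (ev g hg) ∘ₗ i)
      (g := i ∘ₗ act ρ (ev g hg)) (bV.ext fun l => ?_) v
    simp only [LinearMap.comp_apply, act_basis ρ bV, map_sum, map_smul, hi, act_copies, hQ g hg,
      Finset.smul_sum, smul_smul]
    rw [Finset.sum_comm (γ := N)]
    refine Finset.sum_congr rfl fun β _ => ?_
    rw [Finset.sum_comm, Finset.sum_comm (γ := N)]
    refine Finset.sum_congr rfl fun K _ => ?_
    rw [← Finset.sum_smul, ← Finset.sum_smul]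
    congr 1
    calc ∑ I, C (eb β).1 l (eb β).2 I * (g.det⁻¹ ^ c * pw g K I)
        = g.det⁻¹ ^ c * ∑ I, C (eb β).1 l (eb β).2 I * pw g K I := by
          rw [Finset.mul_sum]; exact Finset.sum_congr rfl fun I _ => by ring
      _ = _ := by
          rw [key g hg, Finset.mul_sum]; exact Finset.sum_congr rfl fun k _ => by ring
  have hinj : LinearMap.ker i = ⊥ := by
    rw [LinearMap.ker_eq_bot']
    intro v hv
    refine bV.ext_elem fun j => ?_
    rw [map_zero, Finsupp.zero_apply]
    have h0 : ∀ β I, ∑ l, bV.repr v l * C (eb β).1 l (eb β).2 I = 0 := by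
      intro β I
      have := congr((tbasis a r).repr ($hv β) I)
      rw [← bV.sum_repr v] at this
      simpa [i, Finset.sum_apply, ← tbasis_apply, Finsupp.single_apply] using this
    have h1 : ∀ k, MvPolynomial.eval (fun p => (1 : Matrix (Fin r) (Fin r) ℂ) p.1 p.2) (P j k) =
        if j = k then 1 else 0 := fun k => by
      have := hQ 1 (by simp) j k
      rw [ev_coMatrix_one] at this
      simpa using this.symm
    calc bV.repr v j = ∑ l, bV.repr v l *
          MvPolynomial.eval (fun p => (1 : Matrix (Fin r) (Fin r) ℂ) p.1 p.2) (P j l) := by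
          rw [Finset.sum_eq_single j (fun l _ hl => by rw [h1, if_neg (Ne.symm hl), mul_zero])
            (by simp), h1, if_pos rfl, mul_one]
      _ = ∑ M, ∑ I, (∑ l, bV.repr v l * C j l M I) * pw (1 : Matrix (Fin r) (Fin r) ℂ) M I := by
          simp only [eval_symCoef (hP j _), Finset.mul_sum, Finset.sum_mul]
          rw [Finset.sum_comm (γ := N)]
          refine Finset.sum_congr rfl fun M _ => ?_
          rw [Finset.sum_comm (γ := N)]
          refine Finset.sum_congr rfl fun I _ => Finset.sum_congr rfl fun l _ => ?_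
          show _ * (C j l M I * _) = _
          ring
      _ = 0 := Finset.sum_eq_zero fun M _ => Finset.sum_eq_zero fun I _ => by
          rw [show ∑ l, bV.repr v l * C j l M I = 0 by simpa using h0 (eb.symm (j, M)) I, zero_mul]
  obtain ⟨i', hi'⟩ := i.exists_leftInverse_of_injective hinj
  have hii : ∀ v, i' (i v) = v := LinearMap.congr_fun hi'
  -- the orthogonal projection
  let ι := Σ _ : Fin b, Fin a → Fin r
  let Φ : (Fin b → TensorPower ℂ a (Fin r → ℂ)) ≃ₗ[ℂ] EuclideanSpace ℂ ι :=
    (cbasis a b r).equivFun ≪≫ₗ (WithLp.linearEquiv 2 ℂ (ι → ℂ)).symm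
  have hT : ∀ g hg y, Φ (act (copies r a b c) (ev g hg) y) =
      Matrix.toEuclideanLin (cmat a b c g) (Φ y) := by
    intro g hg y
    refine LinearMap.congr_fun (f := Φ.toLinearMap ∘ₗ act (copies r a b c) (ev g hg))
      (g := Matrix.toEuclideanLin (cmat a b c g) ∘ₗ Φ.toLinearMap)
      ((cbasis a b r).ext fun x => ?_) y
    simp only [LinearMap.comp_apply, LinearEquiv.coe_coe, act_cbasis, map_sum, map_smul]
    ext z
    simp [Φ, Matrix.toLpLin_apply, Matrix.mulVec, dotProduct]
    show ∑ w, cmat a b c g w x * (Finsupp.single w (1 : ℂ)) z =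
      ∑ w, cmat a b c g z w * (Finsupp.single x (1 : ℂ)) w
    simp [Finsupp.single_apply]
  let S : Submodule ℂ (EuclideanSpace ℂ ι) := LinearMap.range (Φ.toLinearMap ∘ₗ i)
  let p : (Fin b → TensorPower ℂ a (Fin r → ℂ)) →ₗ[ℂ] V :=
    i' ∘ₗ Φ.symm.toLinearMap ∘ₗ S.starProjection.toLinearMap ∘ₗ Φ.toLinearMap
  have hip : ∀ y, Φ (i (p y)) = S.starProjection (Φ y) := by
    intro y
    obtain ⟨v, hv⟩ := S.starProjection_apply_mem (Φ y)
    show Φ (i (i' (Φ.symm (S.starProjection (Φ y))))) = _
    rw [← hv]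
    show Φ (i (i' (Φ.symm (Φ (i v))))) = Φ (i v)
    rw [LinearEquiv.symm_apply_apply, hii]
  have hpi : p ∘ₗ i = LinearMap.id := LinearMap.ext fun v => by
    show i' (Φ.symm (S.starProjection (Φ (i v)))) = v
    rw [Submodule.starProjection_eq_self_iff.mpr (show Φ (i v) ∈ S from ⟨v, rfl⟩),
      LinearEquiv.symm_apply_apply, hii]
  have hstab : ∀ g, g.det ≠ 0 → ∀ x ∈ S, Matrix.toEuclideanLin (cmat a b c g) x ∈ S := by
    rintro g hg _ ⟨v, rfl⟩
    exact ⟨act ρ (ev g hg) v, by
      show Φ (i _) = Matrix.toEuclideanLin _ (Φ (i v))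
      rw [← hcomm, hT]⟩
  have hproj : ∀ g, g.det ≠ 0 → ∀ x, S.starProjection (Matrix.toEuclideanLin (cmat a b c g) x) =
      Matrix.toEuclideanLin (cmat a b c g) (S.starProjection x) := by
    intro g hg x
    refine Submodule.eq_starProjection_of_mem_orthogonal' (hstab g hg _ (S.starProjection_apply_mem x))
      (z := Matrix.toEuclideanLin (cmat a b c g) (x - S.starProjection x)) ?_ (by rw [← map_add]; simp)
    rw [Submodule.mem_orthogonal]
    intro s hs
    rw [← LinearMap.adjoint_inner_left, ← Matrix.toEuclideanLin_conjTranspose_eq_adjoint,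
      cmat_conjTranspose]
    exact Submodule.inner_right_of_mem_orthogonal (hstab _ (by simpa [Matrix.det_conjTranspose] using hg) s hs)
      (Submodule.sub_starProjection_mem_orthogonal x)
  haveI := Module.Finite.of_basis (cbasis a b r)
  refine ⟨a, b, c, hc, i, p, hpi, isComodHom_of_act _ _ _ hcomm,
    isComodHom_of_act _ _ _ fun g hg y => ?_⟩
  apply LinearMap.ker_eq_bot.mp hinj
  apply Φ.injective
  rw [← hcomm, hT, hip, hip, hT, hproj g hg]

end Groth.Agent.GLRep
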